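import Mathlib
import Cfsg.Prelude.Def_Local
import Cfsg.Agent.Lib.Fitting
import Cfsg.Agent.Lib.Thompson.Cores
import Cfsg.Agent.Lib.Transfer.Frobenius
import Cfsg.Agent.Lib.Transfer.Hall

/-!
Commutator values and the Baumslag–Wiegold order condition.
-/

set_option autoImplicit false
set_option linter.style.haveILetI false

namespace Cfsg.Agent.FTDown.BW

open Cfsg Subgroup
open scoped commutatorElement

variable {G : Type*} [Group G]

/-- Left-normed commutator values of length `n + 1`. -/
def IsValue {G : Type*} [Group G] : ℕ → G → Prop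
  | 0, _ => True
  | n + 1, x => ∃ a b : G, IsValue n a ∧ x = ⁅a, b⁆

/-- The map `w ↦ [w, c]`. -/
def step (c : G) : G → G := fun w => ⁅w, c⁆

theorem exists_fin_iff : ∀ (k : ℕ) (x : G),
    (∃ f : Fin (k + 1) → G,
      x = ((List.ofFn f).tail).foldl (fun a b => a * b * a⁻¹ * b⁻¹) (f 0)) ↔ IsValue k x := by
  intro k
  induction k with
  | zero => exact fun x => ⟨fun _ => trivial, fun _ => ⟨fun _ => x, rfl⟩⟩
  | succ k ih =>
    intro x
    have key : ∀ f : Fin (k + 2) → G,
        ((List.ofFn f).tail).foldl (fun a b => a * b * a⁻¹ * b⁻¹) (f 0) =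
          ⁅((List.ofFn (fun i => f (Fin.castSucc i))).tail).foldl
            (fun a b => a * b * a⁻¹ * b⁻¹) (f (Fin.castSucc 0)), f (Fin.last _)⁆ := by
      intro f
      rw [List.ofFn_succ' f, List.concat_eq_append,
        List.tail_append_of_ne_nil (by simp [List.ofFn_eq_nil_iff]), List.foldl_append,
        List.foldl_cons, List.foldl_nil, commutatorElement_def, Fin.castSucc_zero]
    constructor
    · rintro ⟨f, rfl⟩
      exact ⟨_, _, (ih _).mp ⟨fun i => f (Fin.castSucc i), rfl⟩, key f⟩
    · rintro ⟨a, b, ha, rfl⟩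
      obtain ⟨g, rfl⟩ := (ih a).mpr ha
      refine ⟨Fin.snoc g b, ?_⟩
      rw [key]
      simp only [Fin.snoc_castSucc, Fin.snoc_last]

theorem IsValue.map {H : Type*} [Group H] (f : G →* H) :
    ∀ {n : ℕ} {x : G}, IsValue n x → IsValue n (f x) := by
  intro n
  induction n with
  | zero => exact fun _ => trivial
  | succ n ih =>
    rintro x ⟨a, b, ha, rfl⟩
    exact ⟨f a, f b, ih ha, map_commutatorElement f a b⟩

theorem IsValue.lift {H : Type*} [Group H] (f : G →* H) (hf : Function.Surjective f) :
    ∀ {n : ℕ} {y : H}, IsValue n y → ∃ x, IsValue n x ∧ f x = y := by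
  intro n
  induction n with
  | zero => exact fun {y} _ => ⟨(hf y).choose, trivial, (hf y).choose_spec⟩
  | succ n ih =>
    rintro y ⟨a, b, ha, rfl⟩
    obtain ⟨a', ha', rfl⟩ := ih ha
    obtain ⟨b', rfl⟩ := hf b
    exact ⟨_, ⟨a', b', ha', rfl⟩, map_commutatorElement f a' b'⟩

theorem IsValue.pred : ∀ {n : ℕ} {x : G}, IsValue (n + 1) x → IsValue n x := by
  intro n
  induction n with
  | zero => exact fun _ => trivial
  | succ n ih =>
    rintro x ⟨a, b, ha, rfl⟩
    exact ⟨a, b, ih ha, rfl⟩

theorem isValue_iterate (c w : G) : ∀ n : ℕ, IsValue n ((step c)^[n] w) := by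
  intro n
  induction n with
  | zero => trivial
  | succ n ih =>
    rw [Function.iterate_succ_apply']
    exact ⟨_, c, ih, rfl⟩

theorem mem_lowerCentralSeries : ∀ {n : ℕ} {x : G}, IsValue n x →
    x ∈ (⊤ : Subgroup G).lowerCentralSeries n := by
  intro n
  induction n with
  | zero => exact fun _ => Subgroup.mem_top _
  | succ n ih =>
    rintro x ⟨a, b, ha, rfl⟩
    rw [Subgroup.lowerCentralSeries_succ]
    exact Subgroup.commutator_mem_commutator (ih ha) (Subgroup.mem_top b)

theorem closure_values_normal (n : ℕ) : (closure {x : G | IsValue n x}).Normal := by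
  refine ⟨fun x hx g => ?_⟩
  have hle : (closure {x : G | IsValue n x}).map (MulAut.conj g).toMonoidHom ≤
      closure {x : G | IsValue n x} := by
    rw [MonoidHom.map_closure]
    refine closure_mono ?_
    rintro _ ⟨y, hy, rfl⟩
    exact hy.map _
  exact hle ⟨x, hx, rfl⟩

theorem lowerCentralSeries_le_closure : ∀ n : ℕ,
    (⊤ : Subgroup G).lowerCentralSeries n ≤ closure {x : G | IsValue n x} := by
  intro n
  induction n with
  | zero => exact fun x _ => subset_closure trivial
  | succ n ih =>
    haveI := closure_values_normal (G := G) (n + 1)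
    set N := closure {x : G | IsValue (n + 1) x}
    rw [Subgroup.lowerCentralSeries_succ]
    have hle : closure {x : G | IsValue n x} ≤ (center (G ⧸ N)).comap (QuotientGroup.mk' N) := by
      rw [closure_le]
      intro a ha
      show (QuotientGroup.mk' N a) ∈ center (G ⧸ N)
      refine mem_center_iff.mpr fun q => ?_
      obtain ⟨b, rfl⟩ := QuotientGroup.mk'_surjective N q
      have h1 : QuotientGroup.mk' N ⁅a, b⁆ = 1 :=
        (QuotientGroup.eq_one_iff _).mpr (subset_closure ⟨a, b, ha, rfl⟩)
      rw [map_commutatorElement, commutatorElement_eq_one_iff_mul_comm] at h1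
      exact h1.symm
    rw [commutator_le]
    intro a ha b _
    refine (QuotientGroup.eq_one_iff _).mp ?_
    show QuotientGroup.mk' N ⁅a, b⁆ = 1
    rw [map_commutatorElement, commutatorElement_eq_one_iff_mul_comm]
    exact (mem_center_iff.mp (hle (ih ha)) _).symm

/-- The order condition. -/
def Cond (k : ℕ) (G : Type*) [Group G] : Prop :=
  ∀ x y : G, IsValue k x → IsValue k y → (orderOf x).Coprime (orderOf y) →
    (∀ r : ℕ, r.Prime → r ∣ orderOf x * orderOf y → r ∣ orderOf (x * y)) ∨
      orderOf x * orderOf y ≤ orderOf (x * y)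

theorem Cond.succ {k : ℕ} (h : Cond k G) : Cond (k + 1) G :=
  fun x y hx hy => h x y hx.pred hy.pred

theorem Cond.subgroup {k : ℕ} (h : Cond k G) (H : Subgroup G) : Cond k H := by
  intro x y hx hy hc
  have := h x y (hx.map H.subtype) (hy.map H.subtype) (by simpa only [Subgroup.orderOf_coe] using hc)
  simpa only [← Subgroup.coe_mul, Subgroup.orderOf_coe] using this

theorem eq_one_of_orderOf_dvd {p : ℕ} [hp : Fact p.Prime] {V : Subgroup G} (hV : IsPGroup p V)
    {z : G} (hz : z ∈ V) {m : ℕ} (hm : m.Coprime p) (hdvd : orderOf z ∣ m) : z = 1 := by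
  obtain ⟨j, hj⟩ := IsPGroup.iff_orderOf.mp hV ⟨z, hz⟩
  rw [← Subgroup.orderOf_coe] at hj
  rw [← orderOf_eq_one_iff, hj]
  rw [hj] at hdvd
  exact Nat.eq_one_of_dvd_coprimes (hm.pow_right j) hdvd dvd_rfl

theorem conj_mem' {V : Subgroup G} {c v : G} (hc : c ∈ normalizer (V : Set G)) (hv : v ∈ V) :
    c * v * c⁻¹ ∈ V :=
  (mem_normalizer_iff.mp hc v).mp hv

theorem step_mem {V : Subgroup G} {c v : G} (hc : c ∈ normalizer (V : Set G)) (hv : v ∈ V) :
    step c v ∈ V := by
  show ⁅v, c⁆ ∈ V
  rw [commutatorElement_def, mul_assoc, mul_assoc, ← mul_assoc c]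
  exact V.mul_mem hv (conj_mem' hc (V.inv_mem hv))

theorem iterate_step_mem {V : Subgroup G} {c v : G} (hc : c ∈ normalizer (V : Set G)) (hv : v ∈ V) :
    ∀ n : ℕ, (step c)^[n] v ∈ V := by
  intro n
  induction n with
  | zero => exact hv
  | succ n ih => rw [Function.iterate_succ_apply']; exact step_mem hc ih

theorem orderOf_step_mul {u c : G} : orderOf (step c u * c) = orderOf c := by
  have : step c u * c = MulAut.conj u c := by
    show ⁅u, c⁆ * c = u * c * u⁻¹
    rw [commutatorElement_def, inv_mul_cancel_right]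
  rw [this, MulEquiv.orderOf_eq]

variable {p : ℕ} [hp : Fact p.Prime] {V : Subgroup G}

/-- Coprime action: `[u, c, c] = 1` forces `[u, c] = 1`. -/
theorem step_eq_one (hV : IsPGroup p V) {c u : G} (hc : c ∈ normalizer (V : Set G))
    (hcop : (orderOf c).Coprime p) (hu : u ∈ V) (h : step c (step c u) = 1) : step c u = 1 := by
  have hcom : Commute (step c u) c := commutatorElement_eq_one_iff_mul_comm.mp h
  refine eq_one_of_orderOf_dvd hV (step_mem hc hu) hcop (orderOf_dvd_of_pow_eq_one ?_)
  have h1 : (step c u * c) ^ orderOf c = 1 := by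
    rw [← orderOf_step_mul (u := u) (c := c)]
    exact pow_orderOf_eq_one _
  rwa [hcom.mul_pow, pow_orderOf_eq_one, mul_one] at h1

theorem step_eq_one_of_iterate (hV : IsPGroup p V) {c : G} (hc : c ∈ normalizer (V : Set G))
    (hcop : (orderOf c).Coprime p) : ∀ {n : ℕ} {u : G}, u ∈ V → (step c)^[n + 1] u = 1 →
      step c u = 1 := by
  intro n
  induction n with
  | zero => exact fun _ h => h
  | succ n ih =>
    intro u hu h
    rw [Function.iterate_succ_apply] at h
    exact step_eq_one hV hc hcop hu (ih (step_mem hc hu) h)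

theorem step_eq_one_iff {c u : G} : step c u = 1 ↔ Commute u c :=
  commutatorElement_eq_one_iff_mul_comm

/-- A value of order prime to `p` normalizing a `p`-group centralizes it. -/
theorem commute_of_value [Finite G] {k : ℕ} (h : Cond k G) {c : G} (hcv : IsValue k c)
    (hcop : (orderOf c).Coprime p) (hV : IsPGroup p V) (hc : c ∈ normalizer (V : Set G)) {v : G}
    (hv : v ∈ V) : Commute v c := by
  rw [← step_eq_one_iff]
  refine step_eq_one_of_iterate hV hc hcop (n := k) hv ?_
  by_contra hx
  have hxv : IsValue k ((step c)^[k + 1] v) := (isValue_iterate c v (k + 1)).pred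
  have hxV := iterate_step_mem hc hv (k + 1)
  obtain ⟨j, hj⟩ := IsPGroup.iff_orderOf.mp hV ⟨_, hxV⟩
  rw [← Subgroup.orderOf_coe] at hj
  have hj0 : j ≠ 0 := fun h0 => hx (orderOf_eq_one_iff.mp (by simpa [h0] using hj))
  have hord : orderOf ((step c)^[k + 1] v * c) = orderOf c := by
    rw [Function.iterate_succ_apply']
    exact orderOf_step_mul
  rcases h _ c hxv hcv (by rw [hj]; exact Nat.Coprime.pow_left j hcop.symm) with h1 | h1
  · have h2 := h1 p hp.out (dvd_mul_of_dvd_left (by simp only [hj]; exact dvd_pow_self p hj0) _)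
    rw [hord] at h2
    exact hp.out.ne_one (Nat.eq_one_of_dvd_coprimes hcop h2 dvd_rfl)
  · rw [hord] at h1
    simp only [hj] at h1
    have h2 : 2 ≤ p ^ j := le_trans hp.out.two_le (Nat.le_self_pow hj0 p)
    have h3 := orderOf_pos c
    nlinarith

end Cfsg.Agent.FTDown.BW
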