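import Cfsg.Agent.FTDown.BW.Solvable
import Cfsg.Agent.Lib.OddOrderGlue.Basic
import Cfsg.Agent.Lib.Involution.BaerSuzuki
import Cfsg.Agent.Lib.Involution.Dihedral

/-!
The order condition forces solvability, given the odd order theorem.
-/

set_option autoImplicit false
set_option linter.style.haveILetI false

namespace Cfsg.Agent.FTDown.BW

open Cfsg Subgroup
open scoped commutatorElement

universe u

theorem map_iterate_step {G H : Type*} [Group G] [Group H] (f : G →* H) (d w : G) :
    ∀ n : ℕ, f ((step d)^[n] w) = (step (f d))^[n] (f w) := by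
  intro n
  induction n with
  | zero => rfl
  | succ n ih =>
    rw [Function.iterate_succ_apply', Function.iterate_succ_apply', step, step,
      map_commutatorElement, ih]

section TwoGroup

variable {H : Type*} [Group H] [Finite H]

/-- Squares generate a proper subgroup of a nontrivial `2`-group. -/
theorem exists_not_mem_closure_sq {P : Subgroup H} (hP : IsPGroup 2 P) (hne : P ≠ ⊥) :
    ∃ v ∈ P, v ∉ Subgroup.closure ((fun w => w * w) '' (P : Set H)) := by
  haveI : Fact (Nat.Prime 2) := ⟨Nat.prime_two⟩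
  haveI : Nontrivial P := (Subgroup.nontrivial_iff_ne_bot P).mpr hne
  haveI := hP.isNilpotent
  have hP2 : IsPGroup 2 (Abelianization P) := hP.to_quotient _
  haveI : Nontrivial (Abelianization P) := by
    by_contra hnt
    rw [not_nontrivial_iff_subsingleton] at hnt
    refine (IsSolvable.commutator_lt_top_of_nontrivial (G := P)).ne (eq_top_iff.mpr fun x _ => ?_)
    exact (QuotientGroup.eq_one_iff _).mp (@Subsingleton.elim _ hnt (QuotientGroup.mk x) 1)
  obtain ⟨j, hj⟩ := IsPGroup.iff_card.mp hP2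
  have hj0 : j ≠ 0 := fun h0 => by
    have := Finite.one_lt_card (α := Abelianization P)
    rw [hj, h0, pow_zero] at this
    exact lt_irrefl _ this
  obtain ⟨z, hz⟩ := exists_prime_orderOf_dvd_card' (G := Abelianization P) 2
    (hj ▸ dvd_pow_self 2 hj0)
  have hsurj : ¬ Function.Surjective (fun a : Abelianization P => a * a) := fun hs => by
    have hinj := Finite.injective_iff_surjective.mpr hs
    have h1 : z * z = 1 * 1 := by rw [Involution.mul_self_of_orderOf hz, one_mul]
    exact Involution.ne_one_of_orderOf hz (hinj h1)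
  rw [Function.Surjective] at hsurj
  push Not at hsurj
  obtain ⟨b, hb⟩ := hsurj
  obtain ⟨v, rfl⟩ := QuotientGroup.mk_surjective b
  refine ⟨v, v.2, fun hv => ?_⟩
  let R : Subgroup (Abelianization P) := (powMonoidHom 2).range
  have hle : Subgroup.closure ((fun w => w * w) '' (P : Set H)) ≤ (R.comap Abelianization.of).map P.subtype := by
    rw [Subgroup.closure_le]
    rintro _ ⟨w, hw, rfl⟩
    refine ⟨⟨w, hw⟩ * ⟨w, hw⟩, ⟨Abelianization.of ⟨w, hw⟩, ?_⟩, rfl⟩
    rw [powMonoidHom_apply, map_mul, pow_two]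
  obtain ⟨v', ⟨a, ha⟩, hv'⟩ := hle hv
  obtain rfl := Subtype.ext hv'
  rw [powMonoidHom_apply, pow_two] at ha
  exact hb a ha

/-- A minimal nontrivial coprime action on a `2`-group yields an involution value. -/
theorem exists_involution_value {c : H} (hcop : (orderOf c).Coprime 2) (m : ℕ) {P : Subgroup H}
    (hP : IsPGroup 2 P) (hc : c ∈ normalizer (P : Set H)) (hne : ∃ v ∈ P, ¬ Commute v c)
    (hmin : ∀ X : Subgroup H, X < P → c ∈ normalizer (X : Set H) → ∀ v ∈ X, Commute v c) :
    ∃ w ∈ P, ∃ b : H, (b ∈ P ∨ b = c) ∧ orderOf ⁅(step c)^[m] w, b⁆ = 2 := by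
  classical
  haveI : Fact (Nat.Prime 2) := ⟨Nat.prime_two⟩
  obtain ⟨v₀, hv₀, hv₀c⟩ := hne
  have hnorm : ∀ T : Set H, T ⊆ P → (∀ x ∈ T, c * x * c⁻¹ ∈ T) →
      c ∈ normalizer (Subgroup.closure T : Set H) := by
    intro T _ hT
    refine Subgroup.mem_normalizer_iff_map_conj_eq.mpr
      (eq_of_le_of_card_ge ?_ (card_map_of_injective (MulEquiv.injective _)).ge)
    show (Subgroup.closure T).map (MulAut.conj c).toMonoidHom ≤ Subgroup.closure T
    rw [MonoidHom.map_closure]
    refine Subgroup.closure_mono ?_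
    rintro _ ⟨x, hx, rfl⟩
    exact hT x hx
  have hK : Subgroup.closure (step c '' (P : Set H)) = P := by
    have hle : Subgroup.closure (step c '' (P : Set H)) ≤ P :=
      (Subgroup.closure_le _).mpr (by rintro _ ⟨w, hw, rfl⟩; exact step_mem hc hw)
    by_contra hne'
    have hfix := hmin _ (lt_of_le_of_ne hle hne') (hnorm _ (by
      rintro _ ⟨w, hw, rfl⟩; exact step_mem hc hw) (by
      rintro _ ⟨w, hw, rfl⟩
      refine ⟨c * w * c⁻¹, conj_mem' hc hw, ?_⟩
      show ⁅c * w * c⁻¹, c⁆ = c * ⁅w, c⁆ * c⁻¹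
      simp only [commutatorElement_def]
      group))
    refine hv₀c (step_eq_one_iff.mp (step_eq_one hP hc hcop hv₀ ?_))
    exact step_eq_one_iff.mpr (hfix _ (Subgroup.subset_closure ⟨v₀, hv₀, rfl⟩))
  set S := Subgroup.closure ((fun w => w * w) '' (P : Set H)) with hS
  have hSle : S ≤ P := (Subgroup.closure_le _).mpr (by rintro _ ⟨w, hw, rfl⟩; exact P.mul_mem hw hw)
  have hPne : P ≠ ⊥ := fun h => hv₀c (by
    rw [h, Subgroup.mem_bot] at hv₀
    rw [hv₀]; exact Commute.one_left c)
  obtain ⟨v₁, hv₁, hv₁S⟩ := exists_not_mem_closure_sq hP hPne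
  have hSfix : ∀ e ∈ S, Commute e c := hmin S (lt_of_le_of_ne hSle fun h => hv₁S (h.ge hv₁))
    (hnorm _ (by rintro _ ⟨w, hw, rfl⟩; exact P.mul_mem hw hw) (by
      rintro _ ⟨w, hw, rfl⟩
      exact ⟨c * w * c⁻¹, conj_mem' hc hw, by group⟩))
  have hsqc : ∀ w ∈ P, ∀ q ∈ P, Commute q (w * w) := by
    intro w hw q hq
    have hle : Subgroup.closure (step c '' (P : Set H)) ≤ centralizer ({w * w} : Set H) := by
      rw [Subgroup.closure_le]
      rintro _ ⟨r, hr, rfl⟩
      refine mem_centralizer_singleton_iff.mpr ?_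
      -- `c` fixes `w * w` and all its conjugates under `P`
      have hfix : ∀ z : H, Commute z c → c * z * c⁻¹ = z := fun z hz => by
        rw [← hz.eq, mul_inv_cancel_right]
      have h1 : c * (w * w) * c⁻¹ = w * w := hfix _ (hSfix _ (Subgroup.subset_closure ⟨w, hw, rfl⟩))
      have hmem : r⁻¹ * w * r ∈ P := P.mul_mem (P.mul_mem (P.inv_mem hr) hw) hr
      have h2 : c * (r⁻¹ * (w * w) * r) * c⁻¹ = r⁻¹ * (w * w) * r := by
        have := hfix _ (hSfix _ (Subgroup.subset_closure ⟨_, hmem, rfl⟩))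
        calc c * (r⁻¹ * (w * w) * r) * c⁻¹
            = c * ((r⁻¹ * w * r) * (r⁻¹ * w * r)) * c⁻¹ := by group
          _ = (r⁻¹ * w * r) * (r⁻¹ * w * r) := this
          _ = _ := by group
      show ⁅r, c⁆ * (w * w) = w * w * ⁅r, c⁆
      rw [← mul_inv_eq_iff_eq_mul, commutatorElement_def]
      calc r * c * r⁻¹ * c⁻¹ * (w * w) * (r * c * r⁻¹ * c⁻¹)⁻¹
          = r * (c * (r⁻¹ * (c⁻¹ * (w * w) * c) * r) * c⁻¹) * r⁻¹ := by group
        _ = r * (c * (r⁻¹ * (w * w) * r) * c⁻¹) * r⁻¹ := by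
            rw [show c⁻¹ * (w * w) * c = w * w by
              conv_lhs => rw [← h1]
              group]
        _ = w * w := by rw [h2]; group
    exact mem_centralizer_singleton_iff.mp (hle (hK.ge hq))
  have hid : ∀ a b : H, ⁅a, b⁆ = (a * b) * (a * b) * ((b⁻¹ * a⁻¹ * b) * (b⁻¹ * a⁻¹ * b)) *
      (b⁻¹ * b⁻¹) := by
    intro a b; rw [commutatorElement_def]; group
  by_cases hab : ∀ a ∈ P, ∀ b ∈ P, Commute a b
  · refine ⟨v₀, hv₀, c, Or.inr rfl, Involution.orderOf_eq_two_iff'.mpr ⟨?_, ?_⟩⟩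
    · set a := (step c)^[m] v₀
      have haP : a ∈ P := iterate_step_mem hc hv₀ m
      have h0 : Commute (a * a) c := hSfix _ (Subgroup.subset_closure ⟨a, haP, rfl⟩)
      have hd : c * a⁻¹ * c⁻¹ ∈ P := conj_mem' hc (P.inv_mem haP)
      have e1 : ⁅a, c⁆ = a * (c * a⁻¹ * c⁻¹) := by rw [commutatorElement_def]; group
      rw [e1]
      calc a * (c * a⁻¹ * c⁻¹) * (a * (c * a⁻¹ * c⁻¹))
          = a * ((c * a⁻¹ * c⁻¹) * a) * (c * a⁻¹ * c⁻¹) := by group
        _ = a * a * ((c * a⁻¹ * c⁻¹) * (c * a⁻¹ * c⁻¹)) := by rw [(hab _ hd _ haP).eq]; group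
        _ = a * a * c * (a * a)⁻¹ * c⁻¹ := by group
        _ = 1 := by rw [h0.eq]; group
    · intro h
      refine hv₀c (step_eq_one_iff.mp (step_eq_one_of_iterate hP hc hcop (n := m) hv₀ ?_))
      rw [Function.iterate_succ_apply']
      exact h
  · push Not at hab
    obtain ⟨a₁, ha₁, b₁, hb₁, hab₁⟩ := hab
    obtain ⟨w, hw, b, hb, hwb⟩ : ∃ w ∈ P, ∃ b ∈ P, ¬ Commute ((step c)^[m] w) b := by
      by_contra hcon
      push Not at hcon
      have hlt : P ⊓ centralizer (P : Set H) < P := lt_of_le_of_ne inf_le_left fun h =>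
        hab₁ (mem_centralizer_iff.mp (h.ge hb₁).2 a₁ ha₁)
      have hcZ : c ∈ normalizer ((P ⊓ centralizer (P : Set H) : Subgroup H) : Set H) := by
        refine Subgroup.mem_normalizer_iff_map_conj_eq.mpr
          (eq_of_le_of_card_ge ?_ (card_map_of_injective (MulEquiv.injective _)).ge)
        rintro _ ⟨z, hz, rfl⟩
        refine Subgroup.mem_inf.mpr ⟨conj_mem' hc hz.1, mem_centralizer_iff.mpr fun q hq => ?_⟩
        show q * (c * z * c⁻¹) = c * z * c⁻¹ * q
        have hq' : c⁻¹ * q * c ∈ P := by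
          have := conj_mem' ((normalizer (P : Set H)).inv_mem hc) hq
          simpa using this
        have := mem_centralizer_iff.mp hz.2 _ hq'
        calc q * (c * z * c⁻¹) = c * ((c⁻¹ * q * c) * z) * c⁻¹ := by group
          _ = c * (z * (c⁻¹ * q * c)) * c⁻¹ := by rw [this]
          _ = c * z * c⁻¹ * q := by group
      refine hv₀c (step_eq_one_iff.mp (step_eq_one_of_iterate hP hc hcop (n := m) hv₀ ?_))
      rw [Function.iterate_succ_apply', step_eq_one_iff]
      exact hmin _ hlt hcZ _ (Subgroup.mem_inf.mpr ⟨iterate_step_mem hc hv₀ m,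
        mem_centralizer_iff.mpr fun q hq => (hcon v₀ hv₀ q hq).eq.symm⟩)
    refine ⟨w, hw, b, Or.inl hb, Involution.orderOf_eq_two_iff'.mpr
      ⟨?_, fun h => hwb (commutatorElement_eq_one_iff_mul_comm.mp h)⟩⟩
    set a := (step c)^[m] w
    have haP : a ∈ P := iterate_step_mem hc hw m
    have hcom : Commute a ⁅a, b⁆ := by
      rw [hid]
      exact ((hsqc _ (P.mul_mem haP hb) a haP).mul_right (hsqc _ (P.mul_mem (P.mul_mem
        (P.inv_mem hb) (P.inv_mem haP)) hb) a haP)).mul_right (hsqc _ (P.inv_mem hb) a haP)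
    calc ⁅a, b⁆ * ⁅a, b⁆ = (⁅a, b⁆ * a) * (b * a⁻¹ * b⁻¹) := by
          simp only [commutatorElement_def]; group
      _ = (a * a) * b * (a * a)⁻¹ * b⁻¹ := by
          rw [← hcom.eq]; simp only [commutatorElement_def]; group
      _ = 1 := by rw [← (hsqc a haP b hb).eq]; group

end TwoGroup

theorem exists_action {H : Type*} [Group H] [Finite H] [IsSimpleGroup H] {q : ℕ}
    [hq : Fact q.Prime] (hd : q ∣ Nat.card H) (hnp : ¬ IsPGroup q H) :
    ∃ (P : Subgroup H) (c : H), IsPGroup q P ∧ c ∈ normalizer (P : Set H) ∧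
      (orderOf c).Coprime q ∧ ∃ v ∈ P, ¬ Commute v c := by
  by_contra hcon
  push Not at hcon
  obtain ⟨P⟩ := (inferInstance : Nonempty (Sylow q H))
  obtain ⟨S, N, hN, hc⟩ := Transfer.hasNormalPComplement_of_normalizer_centralizer P
    fun Q hQ _ g hg hgq => mem_centralizer_iff.mpr fun v hv =>
      hcon Q g (P.2.to_le hQ) hg hgq v hv
  rcases hN.eq_bot_or_eq_top with rfl | rfl
  · refine hnp ?_
    have := hc.sup_eq_top
    rw [bot_sup_eq] at this
    exact IsPGroup.of_equiv (this ▸ S.2) Subgroup.topEquiv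
  · have := hc.disjoint
    rw [disjoint_iff, top_inf_eq] at this
    have h1 := S.dvd_card_of_dvd_card hd
    rw [this, Subgroup.card_bot] at h1
    exact hq.out.ne_one (Nat.dvd_one.mp h1)

theorem not_isPGroup_of_simple {H : Type*} [Group H] [Finite H] [IsSimpleGroup H]
    (hnc : ¬ ∀ a b : H, a * b = b * a) (q : ℕ) [Fact q.Prime] : ¬ IsPGroup q H := by
  intro h
  haveI := h.isNilpotent
  exact hnc (IsSimpleGroup.comm_iff_isSolvable.2 inferInstance)

/-- A value of order prime to `r` outside a maximal normal subgroup. -/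
theorem exists_value_not_mem {G : Type*} [Group G] [Finite G] {N : Subgroup G} [N.Normal]
    [IsSimpleGroup (G ⧸ N)] (hnc : ¬ ∀ a b : G ⧸ N, a * b = b * a) (k r : ℕ) (hr : r.Prime) :
    ∃ x : G, IsValue k x ∧ (orderOf x).Coprime r ∧ x ∉ N := by
  haveI := Fact.mk hr
  obtain ⟨q, hq, hd, hqr⟩ : ∃ q : ℕ, q.Prime ∧ q ∣ Nat.card (G ⧸ N) ∧ q ≠ r := by
    by_contra hcon
    push Not at hcon
    exact not_isPGroup_of_simple hnc r (IsPGroup.of_card
      (Nat.eq_prime_pow_of_unique_prime_dvd Nat.card_pos.ne' fun {d} hd hdvd => hcon d hd hdvd))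
  haveI := Fact.mk hq
  obtain ⟨P, c, hP, hc, hcop, v, hv, hvc⟩ :=
    exists_action hd (not_isPGroup_of_simple hnc q)
  obtain ⟨Q, d, hQ, hQP, hdN, -, hfd⟩ := exists_lift_normalizer (QuotientGroup.mk' N)
    (QuotientGroup.mk'_surjective _) hP hc hcop
  obtain ⟨w, hw, rfl⟩ := hQP.ge hv
  refine ⟨_, (isValue_iterate d w (k + 1)).pred, ?_, fun hmem => ?_⟩
  · obtain ⟨j, hj⟩ := IsPGroup.iff_orderOf.mp hQ ⟨_, iterate_step_mem hdN hw (k + 1)⟩
    rw [← Subgroup.orderOf_coe] at hj
    rw [hj]
    exact Nat.Coprime.pow_left _ ((Nat.coprime_primes hq hr).mpr hqr)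
  · refine hvc (step_eq_one_iff.mp (step_eq_one_of_iterate hP hc hcop (n := k)
      (hQP.le ⟨w, hw, rfl⟩) ?_))
    rw [← hfd, ← map_iterate_step]
    exact (QuotientGroup.eq_one_iff _).mpr hmem

theorem exists_two_value {G : Type*} [Group G] [Finite G] {N : Subgroup G} [N.Normal]
    [IsSimpleGroup (G ⧸ N)] (hnc : ¬ ∀ a b : G ⧸ N, a * b = b * a)
    (h2 : 2 ∣ Nat.card (G ⧸ N)) (k : ℕ) :
    ∃ y : G, IsValue (k + 1) y ∧ (∃ j : ℕ, orderOf y = 2 ^ j) ∧
      orderOf (QuotientGroup.mk' N y) = 2 := by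
  haveI : Fact (Nat.Prime 2) := ⟨Nat.prime_two⟩
  obtain ⟨P₀, c, hP₀, hc₀, hcop, hne₀⟩ := exists_action h2 (not_isPGroup_of_simple hnc 2)
  obtain ⟨P, ⟨hP, hc, hne⟩, hmin⟩ := Set.exists_min_image
    {P : Subgroup (G ⧸ N) | IsPGroup 2 P ∧ c ∈ normalizer (P : Set (G ⧸ N)) ∧
      ∃ v ∈ P, ¬ Commute v c} (fun P => Nat.card P) (Set.toFinite _) ⟨P₀, hP₀, hc₀, hne₀⟩
  obtain ⟨w, hw, b, hb, hord⟩ := exists_involution_value hcop k hP hc hne fun X hX hcX v hv => by
    by_contra hvc
    exact (Nat.lt_irrefl _) ((hmin X ⟨hP.to_le hX.le, hcX, v, hv, hvc⟩).trans_lt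
      (lt_of_le_of_ne (Nat.le_of_dvd Nat.card_pos (Subgroup.card_dvd_of_le hX.le))
        fun he => hX.ne (eq_of_le_of_card_ge hX.le he.ge)))
  obtain ⟨Q, d, hQ, hQP, hdN, -, hfd⟩ := exists_lift_normalizer (QuotientGroup.mk' N)
    (QuotientGroup.mk'_surjective _) hP hc hcop
  obtain ⟨w', hw', rfl⟩ := hQP.ge hw
  have hwQ := iterate_step_mem hdN hw' k
  obtain ⟨b', hb', hbmem⟩ : ∃ b', QuotientGroup.mk' N b' = b ∧ ⁅(step d)^[k] w', b'⁆ ∈ Q := by
    rcases hb with hb | rfl
    · obtain ⟨b', hb', rfl⟩ := hQP.ge hb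
      refine ⟨b', rfl, ?_⟩
      rw [commutatorElement_def]
      exact Q.mul_mem (Q.mul_mem (Q.mul_mem hwQ hb') (Q.inv_mem hwQ)) (Q.inv_mem hb')
    · exact ⟨d, hfd, step_mem hdN hwQ⟩
  refine ⟨_, ⟨_, b', isValue_iterate d w' k, rfl⟩, ?_, ?_⟩
  · obtain ⟨j, hj⟩ := IsPGroup.iff_orderOf.mp hQ ⟨_, hbmem⟩
    exact ⟨j, by rwa [← Subgroup.orderOf_coe] at hj⟩
  · rw [map_commutatorElement, map_iterate_step, hfd, hb']
    exact hord

/-- An involution of a simple non-abelian group inverts an element of odd prime order. -/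
theorem exists_inverted_prime {H : Type*} [Group H] [Finite H] [IsSimpleGroup H]
    (hnc : ¬ ∀ a b : H, a * b = b * a) {t : H} (ht : orderOf t = 2) :
    ∃ (r : ℕ) (x : H), r.Prime ∧ r ≠ 2 ∧ orderOf x = r ∧ t * x * t⁻¹ = x⁻¹ := by
  haveI : Fact (Nat.Prime 2) := ⟨Nat.prime_two⟩
  obtain ⟨g, hg⟩ : ∃ g : H, ¬ IsPGroup 2 (Subgroup.closure ({t, g * t * g⁻¹} : Set H)) := by
    by_contra hcon
    push Not at hcon
    obtain ⟨N, hN, hNp, htN⟩ := Involution.baerSuzuki t hcon
    rcases hN.eq_bot_or_eq_top with rfl | rfl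
    · exact Involution.ne_one_of_orderOf ht (Subgroup.mem_bot.mp htN)
    · exact not_isPGroup_of_simple hnc 2 (IsPGroup.of_equiv hNp Subgroup.topEquiv)
  set u := g * t * g⁻¹ with hu
  have htt := Involution.mul_self_of_orderOf ht
  have huu : u * u = 1 := by
    calc u * u = g * (t * t) * g⁻¹ := by rw [hu]; group
      _ = 1 := by rw [htt]; group
  obtain ⟨r, hr, hrd, hr2⟩ : ∃ r : ℕ, r.Prime ∧ r ∣ orderOf (t * u) ∧ r ≠ 2 := by
    by_contra hcon
    push Not at hcon
    have h2 := Nat.eq_prime_pow_of_unique_prime_dvd (orderOf_pos (t * u)).ne'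
      (fun {d} hd hdvd => hcon d hd hdvd)
    set n := (orderOf (t * u)).primeFactorsList.length with hn
    refine hg fun z => ⟨n + 1, Subtype.ext ?_⟩
    obtain ⟨i, hi | hi⟩ := (Involution.mem_closure_pair_involutions htt huu).mp z.2
    · rw [Subgroup.coe_pow, hi, ← zpow_natCast, ← zpow_mul, mul_comm, zpow_mul, zpow_natCast,
        pow_succ, pow_mul, ← h2, pow_orderOf_eq_one, one_pow, one_zpow, Subgroup.coe_one]
    · rw [Subgroup.coe_pow, hi, pow_succ', pow_mul, pow_two,
        Involution.left_mul_zpow_sq htt huu, one_pow, Subgroup.coe_one]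
  refine ⟨r, (t * u) ^ (orderOf (t * u) / r), hr, hr2,
    orderOf_pow_orderOf_div (orderOf_pos _).ne' hrd, ?_⟩
  rw [← conj_pow, Involution.inverts_mul htt huu, inv_pow]

theorem mem_center_of_forall_centralize {G : Type*} [Group G] [Finite G] {x : G}
    (hx : x ∈ fittingSubgroup G) (h : ∀ r : ℕ, r.Prime → pCore r G ≤ center G) : x ∈ center G :=
  mem_of_mem_fitting hx _ fun r hr _ => h r hr

theorem isSolvable_aux (hFT : OddOrderGlue.FeitThompson.{u}) (k : ℕ) :
    ∀ (n : ℕ) (G : Type u) [Group G] [Finite G], Nat.card G = n → Cond k G →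
      Group.IsSolvable G := by
  intro n
  induction n using Nat.strong_induction_on with
  | _ n ih =>
    intro G _ _ hn h
    by_contra hns
    have hsub : ∀ M : Subgroup G, M ≠ ⊤ → Group.IsSolvable M := fun M hM =>
      ih _ (hn ▸ lt_of_le_of_ne (Subgroup.card_le_card_group M)
        fun he => hM (Subgroup.eq_top_of_card_eq M he)) M rfl (h.subgroup M)
    have hperf : _root_.commutator G = ⊤ := by
      by_contra hne
      haveI := hsub _ hne
      haveI : Group.IsSolvable (Abelianization G) :=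
        Group.isSolvable_of_comm fun a b => mul_comm a b
      exact hns (Group.isSolvable_of_ker_le_range (_root_.commutator G).subtype Abelianization.of
        (by rw [Abelianization.ker_of, range_subtype]))
    haveI : Nontrivial G := by
      by_contra hnt
      rw [not_nontrivial_iff_subsingleton] at hnt
      exact hns (Group.isSolvable_of_comm fun a b => Subsingleton.elim _ _)
    obtain ⟨N, ⟨hN, hNtop⟩, hmax⟩ := Set.exists_max_image
      {M : Subgroup G | M.Normal ∧ M ≠ ⊤} (fun M : Subgroup G => Nat.card M) (Set.toFinite _)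
      ⟨⊥, inferInstance, bot_ne_top⟩
    haveI := hN
    haveI hNs : Group.IsSolvable N := hsub N hNtop
    have hlift : ∀ M : Subgroup G, M.Normal → ¬ M ≤ N → M ⊔ N = ⊤ := by
      intro M hM hMN
      haveI := hM
      by_contra hne
      exact hMN ((le_sup_left : M ≤ M ⊔ N).trans
        (eq_of_le_of_card_ge le_sup_right (hmax _ ⟨inferInstance, hne⟩)).ge)
    haveI : Nontrivial (G ⧸ N) :=
      QuotientGroup.nontrivial_iff.mpr hNtop
    haveI : IsSimpleGroup (G ⧸ N) := ⟨fun M hM => by
      by_cases hle : M.comap (QuotientGroup.mk' N) ≤ N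
      · refine Or.inl (eq_bot_iff.mpr fun x hx => ?_)
        obtain ⟨g, rfl⟩ := QuotientGroup.mk'_surjective N x
        exact (QuotientGroup.eq_one_iff g).mpr (hle hx)
      · refine Or.inr (eq_top_iff.mpr fun x _ => ?_)
        obtain ⟨g, rfl⟩ := QuotientGroup.mk'_surjective N x
        have h1 := hlift _ (hM.comap _) hle
        rw [sup_eq_left.mpr (fun y hy => show QuotientGroup.mk' N y ∈ M from by
          rw [show QuotientGroup.mk' N y = 1 from (QuotientGroup.eq_one_iff y).mpr hy]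
          exact one_mem M)] at h1
        exact h1.ge (Subgroup.mem_top g)⟩
    have hnc : ¬ ∀ a b : G ⧸ N, a * b = b * a := fun hc => hNtop (eq_top_iff.mpr (by
      rw [← hperf, commutator_def, commutator_le]
      intro a _ b _
      refine (QuotientGroup.eq_one_iff _).mp ?_
      show QuotientGroup.mk' N ⁅a, b⁆ = 1
      rw [map_commutatorElement, commutatorElement_eq_one_iff_mul_comm]
      exact hc _ _))
    have hcores : ∀ r : ℕ, r.Prime → pCore r G ≤ center G := by
      intro r hr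
      haveI := Fact.mk hr
      haveI := Fitting.pCore_normal (G := G) r
      obtain ⟨x, hxv, hxr, hxN⟩ := exists_value_not_mem hnc k r hr
      have hxC : x ∈ centralizer (pCore r G : Set G) := mem_centralizer_iff.mpr fun v hv =>
        (commute_of_value h hxv hxr Thompson.isPGroup_pCore
          (by rw [Subgroup.normalizer_eq_top]; exact Subgroup.mem_top _) hv).eq
      have htop : centralizer (pCore r G : Set G) = ⊤ := by
        by_contra hne
        haveI := hsub _ hne
        have hsup := hlift _ inferInstance fun hle => hxN (hle hxC)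
        haveI : Group.IsSolvable (G ⧸ N) := by
          refine Group.isSolvable_of_surjective (f := (QuotientGroup.mk' N).comp
            (centralizer (pCore r G : Set G)).subtype) fun z => ?_
          obtain ⟨g, rfl⟩ := QuotientGroup.mk'_surjective N z
          obtain ⟨a, ha, b, hb, rfl⟩ := Subgroup.mem_sup_of_normal_right.mp (hsup.ge (mem_top g))
          refine ⟨⟨a, ha⟩, ?_⟩
          show QuotientGroup.mk' N a = QuotientGroup.mk' N (a * b)
          rw [map_mul, show QuotientGroup.mk' N b = 1 from (QuotientGroup.eq_one_iff b).mpr hb,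
            mul_one]
        exact hns (Group.isSolvable_of_ker_le_range N.subtype (QuotientGroup.mk' N)
          (by rw [QuotientGroup.ker_mk', range_subtype]))
      exact Subgroup.centralizer_eq_top_iff_subset.mp htop
    have hNZ : N ≤ center G := by
      intro x hx
      refine mem_center_of_forall_centralize ?_ hcores
      have hFN : ∀ z : N, z ∈ fittingSubgroup N → (z : G) ∈ center G := fun z hz =>
        mem_center_of_forall_centralize
          (Components.map_fitting_isSubnormal_le (Subgroup.Normal.isSubnormal hN)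
            ⟨z, hz, rfl⟩) hcores
      have hle := Components.centralizer_generalizedFitting_le (G := N)
      rw [Components.generalizedFitting_eq_fitting_of_isSolvable hNs] at hle
      refine Components.map_fitting_isSubnormal_le (Subgroup.Normal.isSubnormal hN)
        ⟨⟨x, hx⟩, hle (mem_centralizer_iff.mpr fun z hz => Subtype.ext ?_), rfl⟩
      exact (mem_center_iff.mp (hFN z hz) x).symm
    haveI : Fact (Nat.Prime 2) := ⟨Nat.prime_two⟩
    obtain ⟨y, hyv, ⟨j, hyo⟩, hty⟩ :=
      exists_two_value hnc (OddOrderGlue.two_dvd_card hFT (G ⧸ N) hnc) k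
    obtain ⟨r, xb, hr, hr2, hxo, hinv⟩ := exists_inverted_prime hnc hty
    haveI := Fact.mk hr
    obtain ⟨g, rfl⟩ := QuotientGroup.mk'_surjective N xb
    obtain ⟨n', i, hn', hi⟩ := exists_pow_ppart (QuotientGroup.mk' N) (q := r) g (i := 1)
      (by rw [pow_one, hxo])
    set a := g ^ n' with ha
    set e := y * a * y⁻¹ with he
    have hz : e * a ∈ center G := hNZ ((QuotientGroup.eq_one_iff _).mp (by
      show QuotientGroup.mk' N (e * a) = 1
      rw [he, map_mul, map_mul, map_mul, map_inv, hn', hinv, inv_mul_cancel]))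
    have hea : Commute e a := by
      have h1 : (e * a) * a⁻¹ = a⁻¹ * (e * a) := (mem_center_iff.mp hz a⁻¹).symm
      rw [mul_inv_cancel_right] at h1
      exact (eq_inv_mul_iff_mul_eq.mp h1).symm
    set x := a * e⁻¹ with hx
    have hye : y * e * y⁻¹ = a := by
      have h1 : y * (e * a) * y⁻¹ = e * a := by
        rw [mem_center_iff.mp hz y, mul_inv_cancel_right]
      have h2 : y * e * y⁻¹ * e = a * e := by
        rw [← hea.eq]
        conv_rhs => rw [← h1]
        rw [he]; group
      exact mul_right_cancel h2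
    have hyx : y * x * y⁻¹ = x⁻¹ := by
      calc y * x * y⁻¹ = (y * a * y⁻¹) * (y * e * y⁻¹)⁻¹ := by rw [hx]; group
        _ = x⁻¹ := by rw [hye, ← he, hx, mul_inv_rev, inv_inv]
    have hxr : x ^ (r ^ i) = 1 := by
      rw [hx, hea.symm.inv_right.mul_pow, ← hi, pow_orderOf_eq_one, inv_pow]
      rw [he, conj_pow, pow_orderOf_eq_one]
      group
    have hV : IsPGroup r (zpowers x) := by
      rintro ⟨z, hz'⟩
      obtain ⟨l, rfl⟩ := mem_zpowers_iff.mp hz'
      refine ⟨i, Subtype.ext ?_⟩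
      rw [Subgroup.coe_pow, ← zpow_natCast, ← zpow_mul, mul_comm, zpow_mul, zpow_natCast, hxr,
        one_zpow, Subgroup.coe_one]
    have hyN : y ∈ normalizer (zpowers x : Set G) := by
      refine Subgroup.mem_normalizer_iff_map_conj_eq.mpr ?_
      rw [MonoidHom.map_zpowers]
      show zpowers (y * x * y⁻¹) = zpowers x
      rw [hyx, zpowers_inv]
    have hcop : (orderOf y).Coprime r := by
      rw [hyo]
      exact Nat.Coprime.pow_left _ ((Nat.coprime_primes Nat.prime_two hr).mpr hr2.symm)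
    have hxy : Commute x y := commute_of_value h.succ hyv hcop hV hyN (mem_zpowers x)
    have hsq : x ^ 2 = 1 := by
      rw [← hxy.eq, mul_inv_cancel_right] at hyx
      rw [pow_two]
      nth_rewrite 1 [hyx]
      exact inv_mul_cancel x
    have hx1 : x = 1 := eq_one_of_orderOf_dvd hV (mem_zpowers x)
      ((Nat.coprime_primes Nat.prime_two hr).mpr hr2.symm) (orderOf_dvd_of_pow_eq_one hsq)
    have himg : QuotientGroup.mk' N g * QuotientGroup.mk' N g = 1 := by
      have := congrArg (QuotientGroup.mk' N) hx1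
      rw [map_one, hx, map_mul, map_inv, he, map_mul, map_mul, map_inv, hn', hinv, inv_inv] at this
      exact this
    have : r ∣ 2 := hxo ▸ orderOf_dvd_of_pow_eq_one (by rw [pow_two]; exact himg)
    exact hr2 ((Nat.prime_dvd_prime_iff_eq hr Nat.prime_two).mp this)

/-- The statement of S3900, given the odd order theorem. -/
theorem nilpotent_iff (hFT : OddOrderGlue.FeitThompson.{u}) {G : Type u} [Group G] [Finite G]
    (k : ℕ) :
    Group.IsNilpotent ↥((⊤ : Subgroup G).lowerCentralSeries k) ↔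
      ∀ x y : G, (∃ f : Fin (k + 1) → G, x = ((List.ofFn f).tail).foldl (fun a b => a * b * a⁻¹ * b⁻¹) (f 0)) → (∃ f : Fin (k + 1) → G, y = ((List.ofFn f).tail).foldl (fun a b => a * b * a⁻¹ * b⁻¹) (f 0)) → (orderOf x).Coprime (orderOf y) →
        (∀ r : ℕ, r.Prime → r ∣ orderOf x * orderOf y → r ∣ orderOf (x * y)) ∨ orderOf x * orderOf y ≤ orderOf (x * y) := by
  simp only [exists_fin_iff]
  exact ⟨fun h => cond_of_isNilpotent h,
    fun h => isNilpotent_of_isSolvable h (isSolvable_aux hFT k _ G rfl h)⟩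

end Cfsg.Agent.FTDown.BW
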