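import Cfsg.Agent.FTDown.BW.Basic
import Cfsg.Agent.FG75.Engel
import Cfsg.Agent.Lib.Components.GenFitting

/-!
The solvable case of the Baumslag–Wiegold criterion for a term of the lower central series.
-/

set_option autoImplicit false
set_option linter.style.haveILetI false

namespace Cfsg.Agent.FTDown.BW

open Cfsg Subgroup
open scoped commutatorElement

variable {G : Type*} [Group G] [Finite G]

theorem exists_pow_coprime {H : Type*} [Group H] (f : G →* H) {q : ℕ} [hq : Fact q.Prime] (g : G)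
    (h : (orderOf (f g)).Coprime q) :
    ∃ n : ℕ, f (g ^ n) = f g ∧ (orderOf (g ^ n)).Coprime q := by
  have hne := (orderOf_pos g).ne'
  have hDq := Nat.coprime_ordCompl hq.out hne
  obtain ⟨n, hn1, hn0⟩ := Nat.chineseRemainder
    (show (ordCompl[q] (orderOf g)).Coprime (ordProj[q] (orderOf g)) from
      Nat.Coprime.pow_right _ hDq.symm) 1 0
  refine ⟨n, ?_, ?_⟩
  · rw [map_pow]
    conv_rhs => rw [← pow_one (f g)]
    rw [pow_eq_pow_iff_modEq]
    refine hn1.of_dvd ((h.pow_right ((orderOf g).factorization q)).dvd_of_dvd_mul_left ?_)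
    rw [Nat.ordProj_mul_ordCompl_eq_self]
    exact orderOf_map_dvd f g
  · refine Nat.Coprime.coprime_dvd_left (orderOf_dvd_of_pow_eq_one ?_) hDq.symm
    rw [← pow_mul]
    refine orderOf_dvd_iff_pow_eq_one.mp (((dvd_of_eq
      (Nat.ordProj_mul_ordCompl_eq_self (orderOf g) q).symm)).trans ?_)
    exact Nat.mul_dvd_mul_right (Nat.modEq_zero_iff_dvd.mp hn0) _

theorem exists_pow_ppart {H : Type*} [Group H] (f : G →* H) {q : ℕ} [hq : Fact q.Prime] (g : G)
    {i : ℕ} (h : orderOf (f g) = q ^ i) :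
    ∃ n j : ℕ, f (g ^ n) = f g ∧ orderOf (g ^ n) = q ^ j := by
  have hne := (orderOf_pos g).ne'
  have hDq := Nat.coprime_ordCompl hq.out hne
  obtain ⟨n, hn1, hn0⟩ := Nat.chineseRemainder
    (show (ordProj[q] (orderOf g)).Coprime (ordCompl[q] (orderOf g)) from
      Nat.Coprime.pow_left _ hDq) 1 0
  obtain ⟨j, -, hj⟩ := (Nat.dvd_prime_pow hq.out).mp
    (show orderOf (g ^ n) ∣ ordProj[q] (orderOf g) from by
      refine orderOf_dvd_of_pow_eq_one ?_
      rw [← pow_mul]
      refine orderOf_dvd_iff_pow_eq_one.mp (((dvd_of_eq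
        (Nat.ordProj_mul_ordCompl_eq_self (orderOf g) q).symm)).trans ?_)
      rw [mul_comm]
      exact Nat.mul_dvd_mul_right (Nat.modEq_zero_iff_dvd.mp hn0) _)
  refine ⟨n, j, ?_, hj⟩
  rw [map_pow]
  conv_rhs => rw [← pow_one (f g)]
  rw [pow_eq_pow_iff_modEq]
  refine hn1.of_dvd ?_
  rw [h]
  refine (Nat.Coprime.pow_left i hDq).dvd_of_dvd_mul_right ?_
  rw [Nat.ordProj_mul_ordCompl_eq_self, ← h]
  exact orderOf_map_dvd f g

/-- A `p'`-element normalizing a `p`-subgroup of an image lifts to such a pair. -/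
theorem exists_lift_normalizer {H : Type*} [Group H] (f : G →* H) (hf : Function.Surjective f)
    {q : ℕ} [hq : Fact q.Prime] {P : Subgroup H} (hP : IsPGroup q P) {c : H}
    (hc : c ∈ normalizer (P : Set H)) (hcop : (orderOf c).Coprime q) :
    ∃ (Q : Subgroup G) (d : G), IsPGroup q Q ∧ Q.map f = P ∧ d ∈ normalizer (Q : Set G) ∧
      (orderOf d).Coprime q ∧ f d = c := by
  obtain ⟨Q₀⟩ := (inferInstance : Nonempty (Sylow q (P.comap f)))
  set W := P.comap f with hW
  set Q := (Q₀ : Subgroup W).map W.subtype with hQ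
  have hQP : Q.map f = P := by
    let φ : W →* P := (f.comp W.subtype).codRestrict P fun w => w.2
    have hφ : Function.Surjective φ := by
      rintro ⟨y, hy⟩
      obtain ⟨g, rfl⟩ := hf y
      exact ⟨⟨g, hy⟩, rfl⟩
    have htop : ((Q₀.mapSurjective hφ : Sylow q P) : Subgroup P) = ⊤ :=
      ((Q₀.mapSurjective hφ).is_maximal' (IsPGroup.of_equiv hP Subgroup.topEquiv.symm) le_top).symm
    rw [Sylow.coe_mapSurjective] at htop
    refine le_antisymm ?_ fun y hy => ?_
    · rintro _ ⟨_, ⟨w, -, rfl⟩, rfl⟩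
      exact w.2
    · obtain ⟨w, hw, he⟩ := htop.ge (Subgroup.mem_top (⟨y, hy⟩ : P))
      exact ⟨w, ⟨w, hw, rfl⟩, congrArg Subtype.val he⟩
  have hQW : Q ≤ W := Subgroup.map_subtype_le _
  obtain ⟨g, rfl⟩ := hf c
  have hgW : ∀ x ∈ W, g * x * g⁻¹ ∈ W := fun x hx => by
    show f (g * x * g⁻¹) ∈ P
    rw [map_mul, map_mul, map_inv]
    exact conj_mem' hc hx
  obtain ⟨w, hw⟩ : ∃ w : W, ∀ x ∈ Q, (w : G) * (g * x * g⁻¹) * (w : G)⁻¹ ∈ Q := by
    let θ : W →* W := ((MulAut.conj g).toMonoidHom.comp W.subtype).codRestrict W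
      fun x => hgW x x.2
    obtain ⟨R, hR⟩ := ((Q₀.2).map θ).exists_le_sylow
    obtain ⟨w, hw⟩ := MulAction.exists_smul_eq W R Q₀
    refine ⟨w, ?_⟩
    rintro _ ⟨x, hx, rfl⟩
    refine ⟨w * θ x * w⁻¹, ?_, rfl⟩
    rw [← hw]
    exact Subgroup.smul_mem_pointwise_smul _ (MulAut.conj w) _ (hR ⟨x, hx, rfl⟩)
  obtain ⟨a, ha, hfa⟩ := hQP.ge w.2
  set d := a⁻¹ * w * g with hd
  have hdN : d ∈ normalizer (Q : Set G) := by
    refine Subgroup.mem_normalizer_iff_map_conj_eq.mpr
      (eq_of_le_of_card_ge ?_ (card_map_of_injective (MulEquiv.injective _)).ge)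
    rintro _ ⟨x, hx, rfl⟩
    have : MulAut.conj d x = a⁻¹ * ((w : G) * (g * x * g⁻¹) * (w : G)⁻¹) * a := by
      rw [MulAut.conj_apply, hd]; group
    show MulAut.conj d x ∈ Q
    rw [this]
    exact mul_mem (mul_mem (inv_mem ha) (hw x hx)) ha
  have hfd : f d = f g := by
    rw [hd, map_mul, map_mul, map_inv, hfa, inv_mul_cancel, one_mul]
  obtain ⟨n, hn, hn'⟩ := exists_pow_coprime f (q := q) d (hfd ▸ hcop)
  exact ⟨Q, d ^ n, IsPGroup.map Q₀.2 _, hQP, pow_mem hdN n, hn', hn.trans hfd⟩

/-- An element of the Fitting subgroup lies in any subgroup containing the relevant cores. -/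
theorem mem_of_mem_fitting {y : G} (hy : y ∈ fittingSubgroup G) (C : Subgroup G)
    (h : ∀ r : ℕ, r.Prime → r ∣ orderOf y → pCore r G ≤ C) : y ∈ C := by
  have htop : C.subgroupOf (zpowers y) = ⊤ := by
    refine Transfer.eq_top_of_prime_pow_orderOf_mem fun r hr c ⟨j, hj⟩ => ?_
    rw [← Subgroup.orderOf_coe] at hj
    rw [Subgroup.mem_subgroupOf]
    rcases Nat.eq_zero_or_pos j with rfl | hj0
    · rw [pow_zero, orderOf_eq_one_iff] at hj
      rw [hj]; exact one_mem _
    haveI := Fact.mk hr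
    have hcF : (c : G) ∈ fittingSubgroup G := (zpowers_le.mpr hy) c.2
    refine h r hr ?_ (Thompson.le_pCore_of_isSubnormal
      (FG75.isSubnormal_zpowers_of_mem_fitting hcF)
      (IsPGroup.of_card (n := j) (by rw [Nat.card_zpowers, hj])) (mem_zpowers _))
    calc r ∣ r ^ j := dvd_pow_self r hj0.ne'
      _ = orderOf (c : G) := hj.symm
      _ ∣ orderOf y := by rw [← Nat.card_zpowers y]; exact Subgroup.orderOf_dvd_natCard _ c.2
  exact Subgroup.subgroupOf_eq_top.mp htop (mem_zpowers y)

/-- The join of the cores for the primes other than `q`. -/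
def otherCores (q : ℕ) (G : Type*) [Group G] : Subgroup G :=
  sSup {N | ∃ r : ℕ, r.Prime ∧ r ≠ q ∧ N = pCore r G}

omit [Finite G] in
theorem otherCores_normal (q : ℕ) : (otherCores q G).Normal := by
  refine Subgroup.sSup_normal _ ?_
  rintro N ⟨r, -, -, rfl⟩
  exact Fitting.pCore_normal r

omit [Finite G] in
theorem mem_centralizer_otherCores {q : ℕ} {x : G}
    (h : ∀ r : ℕ, r.Prime → r ≠ q → ∀ v ∈ pCore r G, Commute v x) :
    x ∈ centralizer (otherCores q G : Set G) := by
  have hle : otherCores q G ≤ centralizer ({x} : Set G) := by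
    refine sSup_le ?_
    rintro N ⟨r, hr, hne, rfl⟩ v hv
    exact mem_centralizer_singleton_iff.mpr (h r hr hne v hv).eq
  exact mem_centralizer_iff.mpr fun v hv => mem_centralizer_singleton_iff.mp (hle hv)

theorem mem_fitting_of_centralizer_otherCores {q : ℕ} [hq : Fact q.Prime] {W : Subgroup G}
    [W.Normal] (hW : ∀ y ∈ W, (orderOf y).Coprime q → y ∈ fittingSubgroup G) {x : G} (hx : x ∈ W)
    (hxC : x ∈ centralizer (otherCores q G : Set G)) : x ∈ fittingSubgroup G := by
  haveI := otherCores_normal (G := G) q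
  set N := W ⊓ centralizer (otherCores q G : Set G) with hN
  suffices hnil : Group.IsNilpotent N from
    Fitting.le_fitting inferInstance hnil (Subgroup.mem_inf.mpr ⟨hx, hxC⟩)
  have hcen : ∀ y : N, (orderOf y).Coprime q → y ∈ center N := by
    intro y hy
    rw [← Subgroup.orderOf_coe] at hy
    have hyC : (y : G) ∈ centralizer (N : Set G) := by
      refine mem_of_mem_fitting (hW _ y.2.1 hy) _ fun r hr hd => ?_
      refine le_trans (show pCore r G ≤ otherCores q G from le_sSup ⟨r, hr, ?_, rfl⟩)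
        (Subgroup.le_centralizer_iff.mp inf_le_right)
      rintro rfl
      exact hr.ne_one (Nat.eq_one_of_dvd_coprimes hy hd dvd_rfl)
    exact mem_center_iff.mpr fun z => Subtype.ext (mem_centralizer_iff.mp hyC z z.2)
  refine Group.of_quotient_center_nilpotent ?_
  refine IsPGroup.isNilpotent (p := q) fun z => ?_
  obtain ⟨g, rfl⟩ := QuotientGroup.mk_surjective z
  refine ⟨(orderOf g).factorization q, (QuotientGroup.eq_one_iff _).mpr ?_⟩
  refine hcen _ ?_
  rw [orderOf_pow_of_dvd (pow_ne_zero _ hq.out.ne_zero) (Nat.ordProj_dvd _ _)]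
  exact (Nat.coprime_ordCompl hq.out (orderOf_pos g).ne').symm

theorem mem_fitting_of_value {k : ℕ} (h : Cond k G) [(fittingSubgroup G).Normal] {q : ℕ}
    [hq : Fact q.Prime] {x : G} (hxv : IsValue k x) {j : ℕ} (hord : orderOf x = q ^ j)
    (hx : (QuotientGroup.mk x : G ⧸ fittingSubgroup G) ∈ pCore q (G ⧸ fittingSubgroup G)) :
    x ∈ fittingSubgroup G := by
  haveI := Fitting.pCore_normal (G := G ⧸ fittingSubgroup G) q
  refine mem_fitting_of_centralizer_otherCores (q := q)
    (W := (pCore q (G ⧸ fittingSubgroup G)).comap (QuotientGroup.mk' _)) ?_ hx ?_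
  · intro y hy hcop
    rw [← QuotientGroup.eq_one_iff]
    exact eq_one_of_orderOf_dvd Thompson.isPGroup_pCore hy hcop
      (orderOf_map_dvd (QuotientGroup.mk' (fittingSubgroup G)) y)
  · refine mem_centralizer_otherCores fun r hr hne v hv => ?_
    haveI := Fact.mk hr
    refine commute_of_value h hxv ?_ Thompson.isPGroup_pCore ?_ hv
    · rw [hord]
      exact Nat.Coprime.pow_left _ ((Nat.coprime_primes hq.out hr).mpr hne.symm)
    · haveI := Fitting.pCore_normal (G := G) r
      rw [Subgroup.normalizer_eq_top]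
      exact Subgroup.mem_top _

theorem quotient_fitting_isNilpotent {k : ℕ} (h : Cond k G) [(fittingSubgroup G).Normal]
    (hsol : Group.IsSolvable G) : Group.IsNilpotent (G ⧸ fittingSubgroup G) := by
  set f := QuotientGroup.mk' (fittingSubgroup G) with hf
  haveI := hsol
  haveI : Group.IsSolvable (G ⧸ fittingSubgroup G) :=
    Group.isSolvable_of_surjective (QuotientGroup.mk'_surjective (fittingSubgroup G))
  have key : ∀ (q : ℕ), q.Prime → ∀ c : G ⧸ fittingSubgroup G, (orderOf c).Coprime q →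
      ∀ v ∈ pCore q (G ⧸ fittingSubgroup G), Commute v c := by
    intro q hq c hc v hv
    haveI := Fact.mk hq
    haveI := Fitting.pCore_normal (G := G ⧸ fittingSubgroup G) q
    have hcN : c ∈ normalizer (pCore q (G ⧸ fittingSubgroup G) : Set (G ⧸ fittingSubgroup G)) := by
      rw [Subgroup.normalizer_eq_top]; exact Subgroup.mem_top _
    obtain ⟨Q, d, hQ, hQP, hdN, -, hfd⟩ := exists_lift_normalizer f
      (QuotientGroup.mk'_surjective _) (q := q) Thompson.isPGroup_pCore hcN hc
    obtain ⟨w, hw, rfl⟩ := hQP.ge hv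
    rw [← step_eq_one_iff]
    refine step_eq_one_of_iterate (n := k) Thompson.isPGroup_pCore hcN hc
      (hQP.le ⟨w, hw, rfl⟩) ?_
    have himage : ∀ n : ℕ, f ((step d)^[n] w) = (step c)^[n] (f w) := by
      intro n
      induction n with
      | zero => rfl
      | succ n ih =>
        rw [Function.iterate_succ_apply', Function.iterate_succ_apply', step, step,
          map_commutatorElement, ih, hfd]
    rw [← himage]
    have hxQ := iterate_step_mem hdN hw (k + 1)
    obtain ⟨j, hj⟩ := IsPGroup.iff_orderOf.mp hQ ⟨_, hxQ⟩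
    rw [← Subgroup.orderOf_coe] at hj
    exact (QuotientGroup.eq_one_iff _).mpr
      (mem_fitting_of_value h (isValue_iterate d w (k + 1)).pred hj (hQP.le ⟨_, hxQ, rfl⟩))
  refine Fitting.fitting_eq_top_iff.mp
    (Transfer.eq_top_of_prime_pow_orderOf_mem fun q hq c ⟨i, hi⟩ => ?_)
  haveI := Fact.mk hq
  haveI := otherCores_normal (G := G ⧸ fittingSubgroup G) q
  refine mem_fitting_of_centralizer_otherCores (q := q)
    (W := centralizer (otherCores q (G ⧸ fittingSubgroup G) : Set (G ⧸ fittingSubgroup G))) ?_ ?_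
    (mem_centralizer_otherCores fun r hr hne v hv => key r hr c ?_ v hv)
  · intro y hy hcop
    have hle := Components.centralizer_generalizedFitting_le (G := G ⧸ fittingSubgroup G)
    rw [Components.generalizedFitting_eq_fitting_of_isSolvable inferInstance] at hle
    refine hle (mem_centralizer_iff.mpr fun z hz => mem_centralizer_singleton_iff.mp
      (mem_of_mem_fitting hz (centralizer ({y} : Set (G ⧸ fittingSubgroup G)))
        fun r hr _ v hv => mem_centralizer_singleton_iff.mpr ?_))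
    by_cases hrq : r = q
    · subst hrq
      exact (key r hr y hcop v hv).eq
    · exact mem_centralizer_iff.mp hy v ((show pCore r _ ≤ otherCores q _ from
        le_sSup ⟨r, hr, hrq, rfl⟩) hv)
  · exact mem_centralizer_otherCores fun r hr hne v hv => key r hr c
      (by rw [hi]; exact Nat.Coprime.pow_left _ ((Nat.coprime_primes hq hr).mpr hne.symm)) v hv
  · rw [hi]; exact Nat.Coprime.pow_left _ ((Nat.coprime_primes hq hr).mpr hne.symm)

theorem lowerCentralSeries_le_fitting {k : ℕ} (h : Cond k G) (hsol : Group.IsSolvable G) :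
    (⊤ : Subgroup G).lowerCentralSeries k ≤ fittingSubgroup G := by
  haveI : (fittingSubgroup G).Normal := Fitting.fitting_normal
  refine (lowerCentralSeries_le_closure k).trans ((closure_le _).mpr fun x hx => ?_)
  have hnil := quotient_fitting_isNilpotent h hsol
  rw [SetLike.mem_coe, ← QuotientGroup.eq_one_iff]
  let e := Sylow.directProductOfNormal (G := G ⧸ fittingSubgroup G)
    fun {p} hp P => Transfer.nilpotent_sylow_normal (p := p) hnil P
  apply e.symm.injective
  rw [map_one]
  funext ⟨q, hq⟩ P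
  haveI := Fact.mk (Nat.prime_of_mem_primeFactors hq)
  let φ : G →* ↥(P : Subgroup (G ⧸ fittingSubgroup G)) :=
    (((Pi.evalMonoidHom (fun P : Sylow q (G ⧸ fittingSubgroup G) => ↥(P : Subgroup (G ⧸ fittingSubgroup G))) P).comp
      (Pi.evalMonoidHom (fun p : (Nat.card (G ⧸ fittingSubgroup G)).primeFactors =>
        ∀ P : Sylow (p : ℕ) (G ⧸ fittingSubgroup G), ↥(P : Subgroup (G ⧸ fittingSubgroup G))) ⟨q, hq⟩)).comp
      e.symm.toMonoidHom).comp (QuotientGroup.mk' (fittingSubgroup G))
  have hφ : Function.Surjective φ := by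
    classical
    intro y
    obtain ⟨g, hg⟩ := QuotientGroup.mk'_surjective (fittingSubgroup G)
      (e (Pi.mulSingle ⟨q, hq⟩ (Pi.mulSingle P y)))
    refine ⟨g, ?_⟩
    show e.symm (QuotientGroup.mk' (fittingSubgroup G) g) ⟨q, hq⟩ P = y
    rw [hg, e.symm_apply_apply, Pi.mulSingle_eq_same, Pi.mulSingle_eq_same]
  obtain ⟨Q⟩ := (inferInstance : Nonempty (Sylow q G))
  have htop : (Q.mapSurjective hφ).toSubgroup = ⊤ :=
    ((Q.mapSurjective hφ).is_maximal' (IsPGroup.of_equiv P.2 Subgroup.topEquiv.symm) le_top).symm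
  rw [Sylow.coe_mapSurjective] at htop
  obtain ⟨x', hx', he⟩ := IsValue.lift (φ.comp (Q : Subgroup G).subtype)
    (fun y => by
      obtain ⟨g, hg, hgy⟩ := htop.ge (Subgroup.mem_top y)
      exact ⟨⟨g, hg⟩, hgy⟩)
    (IsValue.map φ hx)
  obtain ⟨j, hj⟩ := IsPGroup.iff_orderOf.mp Q.2 x'
  rw [← Subgroup.orderOf_coe] at hj
  have hxF : (x' : G) ∈ fittingSubgroup G := by
    refine mem_fitting_of_value h (hx'.map (Q : Subgroup G).subtype) hj ?_
    haveI := hnil
    refine Thompson.le_pCore_of_isSubnormal (Subnormal.isSubnormal_of_isNilpotent _) ?_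
      (mem_zpowers _)
    obtain ⟨i, -, hi⟩ := (Nat.dvd_prime_pow Fact.out).mp
      (hj ▸ orderOf_map_dvd (QuotientGroup.mk' (fittingSubgroup G)) (x' : G))
    exact IsPGroup.of_card (n := i) (by rw [Nat.card_zpowers]; exact hi)
  have h1 : φ (x' : G) = 1 := by
    simp only [φ, MonoidHom.coe_comp, Function.comp_apply]
    rw [show QuotientGroup.mk' (fittingSubgroup G) (x' : G) = 1 from
      (QuotientGroup.eq_one_iff _).mpr hxF]
    simp
  exact he.symm.trans h1

theorem isNilpotent_of_isSolvable {k : ℕ} (h : Cond k G) (hsol : Group.IsSolvable G) :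
    Group.IsNilpotent ↥((⊤ : Subgroup G).lowerCentralSeries k) :=
  Fitting.isNilpotent_of_le Fitting.fitting_isNilpotent (lowerCentralSeries_le_fitting h hsol)

theorem cond_of_isNilpotent {k : ℕ}
    (h : Group.IsNilpotent ↥((⊤ : Subgroup G).lowerCentralSeries k)) : Cond k G := by
  intro x y hx hy hc
  refine Or.inr (le_of_eq ?_)
  have hcom : Commute x y := congrArg Subtype.val (Transfer.nilpotent_commute_of_coprime h
    (x := ⟨x, mem_lowerCentralSeries hx⟩) (y := ⟨y, mem_lowerCentralSeries hy⟩)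
    (by simpa only [Subgroup.orderOf_mk] using hc)).eq
  exact (hcom.orderOf_mul_eq_mul_orderOf_of_coprime hc).symm

end Cfsg.Agent.FTDown.BW
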